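import Groth.Agent.Etdl.H437.PolyPow
import Groth.Agent.Etdl.H438.PowStrict
import Mathlib.RingTheory.MvPowerSeries.Equiv

/-!
# `K[[z_1, …, z_c]][u] → K[[u, z_1, …, z_c]]`

The composite of `Λ[u] → Λ[[u]]` with the isomorphism `Λ[[u]] ≃ K[[z_0, …, z_c]]`, `u ↦ z_0`
(`Λ = K[[z_1, …, z_c]]`): it is a regular homomorphism, and the closed point goes to the prime
containing `u` above the maximal ideal of `Λ`.
-/

set_option autoImplicit false
universe u

open Polynomial IsLocalRing

namespace Groth.Agent.Etdl.H439.LineAlg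

variable (K : Type u) [Field K] (c : ℕ)

/-- `K[[z_1, …, z_c]]` -/
abbrev Lam : Type u := MvPowerSeries (Fin c) K

/-- `K[[z_0, …, z_c]]` -/
abbrev Pow : Type u := MvPowerSeries (Fin (c + 1)) K

/-- `Λ[u] → K[[z_0, …, z_c]]`, `u ↦ z_0` -/
noncomputable def tau : (Lam K c)[X] →+* Pow K c :=
  ((MvPowerSeries.finSuccEquiv K c).symm : PowerSeries (Lam K c) ≃ₐ[K] Pow K c).toRingHom.comp
    (algebraMap (Lam K c)[X] (PowerSeries (Lam K c)))

theorem finSucc_tau (p : (Lam K c)[X]) :
    MvPowerSeries.finSuccEquiv K c (tau K c p) = (p : PowerSeries (Lam K c)) := by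
  rw [← Groth.Agent.Etdl.H437.PolyPow.algebraMap_eq_coe]
  exact (MvPowerSeries.finSuccEquiv K c).apply_symm_apply _

theorem tau_X : tau K c Polynomial.X = MvPowerSeries.X 0 := by
  apply (MvPowerSeries.finSuccEquiv K c).injective
  rw [finSucc_tau, MvPowerSeries.finSuccEquiv_X_zero, Polynomial.coe_X]

theorem constantCoeff_tau (p : (Lam K c)[X]) :
    MvPowerSeries.constantCoeff (tau K c p) = MvPowerSeries.constantCoeff (p.coeff 0) := by
  have h := MvPowerSeries.coeff_coeff_finSuccEquiv (R := K) (n := c) (tau K c p) (k := 0) (x := 0)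
  rw [finSucc_tau, Polynomial.coeff_coe] at h
  rw [Finsupp.cons_zero_zero] at h
  exact h.symm

theorem isRegularHom_tau :
    letI := (tau K c).toAlgebra
    CAlg.IsRegularHom (Lam K c)[X] (Pow K c) := by
  letI := (tau K c).toAlgebra
  let e : PowerSeries (Lam K c) ≃ₐ[(Lam K c)[X]] Pow K c :=
    AlgEquiv.ofRingEquiv (f := ((MvPowerSeries.finSuccEquiv K c).symm :
      PowerSeries (Lam K c) ≃ₐ[K] Pow K c).toRingEquiv) (fun _ => rfl)
  exact Groth.Agent.Ega4C.GeomCompReg.isRegularHom_of_algEquiv _ _ _ e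
    (Groth.Agent.Etdl.H437.PolyPow.isRegularHom_mvPowerSeries_powerSeries K c)

/-- The prime ideal containing `u` above the maximal ideal of `Λ`. -/
theorem comap_maximalIdeal_eq (w : Ideal (Lam K c)[X]) (hw : w.IsMaximal) (hX : Polynomial.X ∈ w) :
    (maximalIdeal (Pow K c)).comap (tau K c) = w := by
  refine (hw.eq_of_le ?_ ?_).symm
  · exact (Ideal.comap_isPrime (tau K c) (maximalIdeal (Pow K c))).ne_top
  · intro p hp
    rw [Ideal.mem_comap, mem_maximalIdeal, mem_nonunits_iff, MvPowerSeries.isUnit_iff_constantCoeff,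
      isUnit_iff_ne_zero, not_not, constantCoeff_tau]
    by_contra hne
    have hu : IsUnit (p.coeff 0) :=
      MvPowerSeries.isUnit_iff_constantCoeff.2 (isUnit_iff_ne_zero.2 hne)
    have h1 : Polynomial.C (p.coeff 0) ∈ w := by
      have h2 : p - Polynomial.C (p.coeff 0) ∈ w := by
        refine w.mem_of_dvd ?_ hX
        rw [Polynomial.X_dvd_iff]
        simp
      have h3 := w.sub_mem hp h2
      rwa [sub_sub_cancel] at h3
    exact hw.ne_top (Ideal.eq_top_of_isUnit_mem _ h1 (hu.map Polynomial.C))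

end Groth.Agent.Etdl.H439.LineAlg
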