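import Groth.Agent.Etdl.H428.RegBC
import Groth.Agent.Etdl.H439.LineAlg
import Groth.Agent.Etdl.H438.PowAsm
import Groth.Agent.EtpbcA.ArtinTransfer
import Groth.Agent.EtpbcA.CdExact
import Groth.Agent.Etcore.Torsion
import Groth.Agent.Etdl.H435.Defs

/-!
# The local computation at the origin of the relative affine line over `K[[z_1, …, z_c]]`

`not_mem_supp`: for `j : D(u) ⟶ Spec Λ[u]`, `Λ = K[[z_1, …, z_c]]`, and a torsion sheaf `F` on `D(u)`, the
stalk of `R^q j_* F` at the closed point `u = z = 0` vanishes for `q > c + 1`, by the statement `SX c` for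
`K[[z_0, …, z_c]][1/z_0]` and regular base change along `Λ[u] → K[[z_0, …, z_c]]`.
-/

set_option autoImplicit false
universe u
open CategoryTheory CategoryTheory.Limits AlgebraicGeometry Opposite IsLocalRing

namespace Groth.Agent.Etdl.H439.LineLoc

open LineAlg Groth.Agent.EtpbcA Groth.Agent.EtpbcA.Artin Groth.Agent.EtpbcB
open Groth.Agent.Etdl.H435.Defs

theorem isUnit_natCast (K : Type u) [Field K] [CharZero K] (c n : ℕ) (hn : 0 < n) :
    IsUnit (n : Polynomial (Lam K c)) := by
  have h := (Groth.Agent.Etdl.H438.PowAsm.isUnit_natCast_mvPowerSeries K c n hn).map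
    (Polynomial.C : Lam K c →+* Polynomial (Lam K c))
  rwa [map_natCast] at h

theorem spec_map_mem_iff {A B : Type u} [CommRing A] [CommRing B] (φ : A →+* B)
    (v : Spec (CommRingCat.of B)) (a : A) :
    a ∈ (Spec.map (CommRingCat.ofHom φ) v).asIdeal ↔ φ a ∈ v.asIdeal := Iff.rfl

theorem not_mem_supp (K : Type u) [Field K] [IsAlgClosed K] [CharZero K] (c : ℕ) (hS : SX.{u} c)
    {U : Scheme.{u}} (j : U ⟶ Spec (CommRingCat.of (Polynomial (Lam K c)))) [IsOpenImmersion j]
    (hj : ∀ v : Spec (CommRingCat.of (Polynomial (Lam K c))),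
      v ∈ Set.range j ↔ (Polynomial.X : Polynomial (Lam K c)) ∉ v.asIdeal)
    (w : Spec (CommRingCat.of (Polynomial (Lam K c))))
    (hw : IsClosed ({w} : Set (Spec (CommRingCat.of (Polynomial (Lam K c))))))
    (hX : (Polynomial.X : Polynomial (Lam K c)) ∈ w.asIdeal)
    (F : EtCoh.Ab U) (hF : EtCoh.IsTorsion F) (q : ℕ) (hq : c + 1 < q) :
    w ∉ EtPBC.supp ((EtCoh.Rpush j q).obj F) := by
  let _ : Algebra (Polynomial (Lam K c)) (Pow K c) := (tau K c).toAlgebra
  have hreg : CAlg.IsRegularHom (Polynomial (Lam K c)) (Pow K c) := isRegularHom_tau K c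
  have hhens : HenselianLocalRing (Pow K c) := Groth.Agent.Etdl.H438.PowStrict.henselian_field K (c + 1)
  have hsep : IsSepClosed (ResidueField (Pow K c)) :=
    Groth.Agent.Etdl.H438.PowStrict.isSepClosed_field K (c + 1)
  have hmax : w.asIdeal.IsMaximal := (PrimeSpectrum.isClosed_singleton_iff_isMaximal w).1 hw
  let g : Spec (CommRingCat.of (Pow K c)) ⟶ Spec (CommRingCat.of (Polynomial (Lam K c))) :=
    Spec.map (CommRingCat.ofHom (algebraMap (Polynomial (Lam K c)) (Pow K c)))
  have hgw : g (closedPoint (Pow K c)) = w := by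
    apply PrimeSpectrum.ext
    exact comap_maximalIdeal_eq K c w.asIdeal hmax hX
  have hinv := Groth.Agent.Etdl.H438.PowAsm.isTorsionInvertibleOn_of_isTorsion
    (Polynomial (Lam K c)) (isUnit_natCast K c) F hF
  obtain ⟨⟨e⟩, -⟩ := Groth.Agent.Etdl.H428.RegBC.baseChange_of_isRegularHom hreg j
    (pullback.snd j g) (pullback.fst j g) (IsPullback.of_hasPullback j g) F hinv q
  have hsub : Subsingleton (EtCoh.H (pullback j g) ((EtCoh.pull (pullback.fst j g)).obj F) q) := by
    have hrange : Set.range (Spec.map (CommRingCat.ofHom (algebraMap (Pow K c)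
        (Localization.Away (MvPowerSeries.X 0 : Pow K c))))) = Set.range (pullback.snd j g) := by
      rw [Scheme.Pullback.range_snd]
      refine (PrimeSpectrum.localization_away_comap_range _ (MvPowerSeries.X 0 : Pow K c)).trans ?_
      ext v
      have h3 : v ∈ (g ⁻¹' Set.range j) ↔ (Polynomial.X : Polynomial (Lam K c)) ∉ (g v).asIdeal := hj (g v)
      refine Iff.trans ?_ h3.symm
      change _ ↔ (tau K c Polynomial.X) ∉ v.asIdeal
      rw [tau_X]
      rfl
    let e2 := IsOpenImmersion.isoOfRangeEq (Spec.map (CommRingCat.ofHom (algebraMap (Pow K c)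
        (Localization.Away (MvPowerSeries.X 0 : Pow K c))))) (pullback.snd j g) hrange
    exact CdExact.cohDimLE_of_iso e2 (c + 1) (hS K) _ (Etcore.Torsion.isTorsion_pull _ F hF) q hq
  intro hmem
  have h1 : closedPoint (Pow K c) ∈ EtPBC.supp ((EtCoh.pull g).obj ((EtCoh.Rpush j q).obj F)) := by
    rw [supp_pull]
    refine Set.mem_preimage.2 ?_
    rw [hgw]
    exact hmem
  rw [supp_congr e] at h1
  obtain ⟨a1, a2, a3, hspec⟩ := StrictHensTransport.exists_specOf_closedPoint (Pow K c)
  refine (Artin.not_mem_supp_Rpush_iff (pullback.snd j g) _ q (closedPoint (Pow K c)) (Pow K c)).2 ?_ h1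
  rw [hspec]
  exact (PBCVan.van_id _ _ _).2 hsub

end Groth.Agent.Etdl.H439.LineLoc
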