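import Mathlib.Algebra.Category.Grp.Biproducts
import Mathlib.Algebra.Category.Grp.Abelian
import Mathlib.Algebra.Category.Grp.Zero
import Mathlib.LinearAlgebra.Basis.VectorSpace
import Mathlib.Algebra.Module.ZMod
import Mathlib.LinearAlgebra.TensorProduct.Prod
import Mathlib.LinearAlgebra.Dimension.Free
import Mathlib.LinearAlgebra.FreeModule.Finite.Basic
import Mathlib.LinearAlgebra.Dimension.StrongRankCondition
import Mathlib.CategoryTheory.ObjectProperty.ClosedUnderIsomorphisms
import Mathlib.CategoryTheory.Preadditive.AdditiveFunctor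
import Mathlib.Data.ZMod.Basic
import Mathlib.Algebra.Field.ZMod

/-!
# Elementary algebra for the Künneth formula with `ℤ/ℓ`-coefficients
-/

set_option autoImplicit false
universe w v u

open CategoryTheory CategoryTheory.Limits TensorProduct

namespace Groth.Agent.Etdl.H439.Alg

/-- evaluation at the only index with nonzero group -/
noncomputable def piEvalEquiv {ι : Type*} [DecidableEq ι] (N : ι → Type*) [∀ i, AddCommGroup (N i)] (i₀ : ι)
    (h : ∀ i, i ≠ i₀ → Subsingleton (N i)) : (∀ i, N i) ≃+ N i₀ :=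
  AddEquiv.ofBijective (Pi.evalAddMonoidHom N i₀) (by
    constructor
    · intro f g hfg
      funext i
      by_cases hi : i = i₀
      · subst hi
        exact hfg
      · exact (h i hi).elim _ _
    · intro x
      exact ⟨Pi.single i₀ x, by simp⟩)

/-- product of products -/
def piProdEquiv {ι : Type*} (A B : ι → Type*) [∀ i, AddCommGroup (A i)] [∀ i, AddCommGroup (B i)] :
    (∀ i, A i × B i) ≃+ (∀ i, A i) × (∀ i, B i) where
  toFun f := (fun i => (f i).1, fun i => (f i).2)
  invFun g := fun i => (g.1 i, g.2 i)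
  left_inv _ := rfl
  right_inv _ := rfl
  map_add' _ _ := rfl

/-- `C ⊗ ℤ/ℓ ≃ C` when `ℓ` kills `C`. -/
theorem nonempty_tensor_zmod (C : Type w) [AddCommGroup C] (ℓ : ℕ) (h : ∀ x : C, ℓ • x = 0) :
    Nonempty (C ⊗[ℤ] ZMod ℓ ≃+ C) := by
  let : Module (ZMod ℓ) C := AddCommGroup.zmodModule h
  let f : C →ₗ[ℤ] C ⊗[ℤ] ZMod ℓ := (TensorProduct.mk ℤ C (ZMod ℓ)).flip 1
  let g : C ⊗[ℤ] ZMod ℓ →ₗ[ℤ] C := TensorProduct.lift
    (LinearMap.mk₂ ℤ (fun (c : C) (z : ZMod ℓ) => z • c)
      (fun c d z => smul_add z c d)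
      (fun n c z => smul_comm z n c)
      (fun c y z => add_smul y z c)
      (fun n c z => smul_assoc n z c))
  have hg : ∀ (c : C) (z : ZMod ℓ), g (c ⊗ₜ z) = z • c := fun c z =>
    TensorProduct.lift.tmul _ _
  have hf : ∀ c : C, f c = c ⊗ₜ 1 := fun c => rfl
  have hzc : ∀ (n : ℤ) (c : C), ((n : ℤ) : ZMod ℓ) • c = n • c := fun n c => Int.cast_smul_eq_zsmul _ n c
  refine ⟨AddEquiv.mk' ⟨g, f, ?_, ?_⟩ (fun a b => map_add g a b)⟩
  · intro x
    induction x using TensorProduct.induction_on with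
    | zero => simp
    | tmul c z =>
      rw [hg, hf]
      obtain ⟨n, rfl⟩ := ZMod.intCast_surjective z
      rw [hzc, TensorProduct.smul_tmul]
      congr 1
      simp
    | add a b ha hb => rw [map_add, map_add, ha, hb]
  · intro c
    rw [hf, hg, one_smul]

/-- an additive functor to abelian groups and binary biproducts -/
noncomputable def mapBiprodAddEquiv {D : Type u} [Category.{v} D] [Preadditive D] [HasBinaryBiproducts D]
    (F : D ⥤ AddCommGrpCat.{w}) [F.Additive] (X Y : D) :
    F.obj (X ⊞ Y) ≃+ F.obj X × F.obj Y :=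
  haveI : PreservesBinaryBiproducts F := preservesBinaryBiproducts_of_preservesBiproducts F
  (F.mapBiprod X Y ≪≫ AddCommGrpCat.biprodIsoProd _ _).addCommGroupIsoToAddEquiv

/-- Induction over finite groups killed by `ℓ`. -/
theorem fin_induction (ℓ : ℕ) [hℓ : Fact ℓ.Prime] (Q : ObjectProperty AddCommGrpCat.{w}) [Q.IsClosedUnderIsomorphisms]
    (h0 : ∀ V : AddCommGrpCat.{w}, IsZero V → Q V) (h1 : Q (AddCommGrpCat.of (ULift.{w} (ZMod ℓ))))
    (h2 : ∀ V W : AddCommGrpCat.{w}, Q V → Q W → Q (V ⊞ W))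
    (V : AddCommGrpCat.{w}) [Finite V] (hV : ∀ x : V, ℓ • x = 0) : Q V := by
  have key : ∀ (n : ℕ), Q (AddCommGrpCat.of (ULift.{w} (Fin n → ZMod ℓ))) := by
    intro n
    induction n with
    | zero => exact h0 _ (AddCommGrpCat.isZero_of_subsingleton _)
    | succ n ih =>
      let e : ULift.{w} (ZMod ℓ) × ULift.{w} (Fin n → ZMod ℓ) ≃+ ULift.{w} (Fin (n + 1) → ZMod ℓ) :=
        { toFun := fun x => ULift.up (Fin.cons x.1.down x.2.down)
          invFun := fun y => (ULift.up (y.down 0), ULift.up (Fin.tail y.down))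
          left_inv := fun x => rfl
          right_inv := fun y => by
            apply ULift.down_injective
            exact Fin.cons_self_tail _
          map_add' := fun x y => by
            apply ULift.down_injective
            funext i
            refine Fin.cases rfl (fun j => rfl) i }
      refine Q.prop_of_iso (AddCommGrpCat.biprodIsoProd _ _ ≪≫ e.toAddCommGrpIso) (h2 _ _ h1 ih)
  let : Module (ZMod ℓ) V := AddCommGroup.zmodModule hV
  obtain ⟨n, ⟨b⟩⟩ : ∃ n : ℕ, Nonempty (Module.Basis (Fin n) (ZMod ℓ) V) := by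
    have hfin : Finite (Module.Free.ChooseBasisIndex (ZMod ℓ) V) :=
      Finite.of_injective _ (Module.Free.chooseBasis (ZMod ℓ) V).injective
    obtain ⟨n, ⟨e⟩⟩ := Finite.exists_equiv_fin (Module.Free.ChooseBasisIndex (ZMod ℓ) V)
    exact ⟨n, ⟨(Module.Free.chooseBasis (ZMod ℓ) V).reindex e⟩⟩
  let e : ULift.{w} (Fin n → ZMod ℓ) ≃+ V :=
    AddEquiv.ulift.trans b.equivFun.symm.toAddEquiv
  exact Q.prop_of_iso (X := AddCommGrpCat.of (ULift.{w} (Fin n → ZMod ℓ)))
    e.toAddCommGrpIso (key _)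

end Groth.Agent.Etdl.H439.Alg
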