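import Groth.Agent.Etdl.H439.PointK
import Groth.Agent.S0768
import Groth.Agent.S0773
import Groth.Agent.S0770
import Groth.Agent.S3111
import Groth.Agent.Sga4B.PointConst

/-!
# Künneth formula for cohomology with proper support over an algebraically closed field, coefficients `ℤ/ℓ`

* `nonempty_main`: `R(P/k)_! (pr_Y)^* F ≅ R(X/k)_! (X/k)^* R(Y/k)_! F` for `F` torsion (any compactifications).
* `kunneth`: `H^m_c(X × Y, ℤ/ℓ) ≅ ⨁_{i ≤ m} H^i_c(X, ℤ/ℓ) ⊗ H^{m-i}_c(Y, ℤ/ℓ)`, any prime `ℓ`.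
-/

set_option autoImplicit false
universe u

open CategoryTheory CategoryTheory.Limits AlgebraicGeometry Opposite DerivedCategory TensorProduct

attribute [local instance] HasDerivedCategory.standard

namespace Groth.Agent.Etdl.H439.Asm

open Groth.Agent.EtpbcB.SepClosedPoint Groth.Agent.EtpbcB.GammaRpush Groth.Agent.Etdl.H439.KProp
  Groth.Agent.Etrest.DEtPush Groth.Agent.Etrest.RDer3 Groth.Agent.Etdl.H439.PointK

attribute [local instance] exact_extZero

section single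

variable {k : Type u} [Field k] [IsSepClosed k] {X Xbar : Scheme.{u}} (a : Xbar ⟶ Spec (CommRingCat.of k))
  (j : X ⟶ Xbar) [IsOpenImmersion j]

/-- `Rf_!` on single complexes through `TR`. -/
theorem nonempty_shriek_single {X Xbar S : Scheme.{u}} (a : Xbar ⟶ S) (j : X ⟶ Xbar) [IsOpenImmersion j]
    [DCoh.HasRpushEt Xbar a] (F : EtCoh.Ab X) :
    Nonempty ((DCoh.RpushEt Xbar a).obj ((EtShriek.extZero j).mapDerivedCategory.obj
        ((singleFunctor (EtCoh.Ab X) 0).obj F)) ≅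
      (TR (EtCoh.push a)).obj ((singleFunctor (EtCoh.Ab Xbar) 0).obj ((EtShriek.extZero j).obj F))) :=
  ⟨(rpushIso a).app _ ≪≫ (TR (EtCoh.push a)).mapIso
    (((EtShriek.extZero j).mapDerivedCategorySingleFunctor 0).app F)⟩

/-- `Γ(H^n(Rf_! F)) = H^n(Xbar, j_! F)` over a separably closed field. -/
theorem nonempty_gamma_shriek [DCoh.HasRpushEt Xbar a] (F : EtCoh.Ab X) (n : ℕ) :
    Nonempty ((Γtop (Spec (CommRingCat.of k))).obj (DCoh.HDEt ((DCoh.RpushEt Xbar a).obj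
      ((EtShriek.extZero j).mapDerivedCategory.obj ((singleFunctor (EtCoh.Ab X) 0).obj F))) (n : ℤ)) ≃+
      EtCoh.H Xbar ((EtShriek.extZero j).obj F) n) := by
  obtain ⟨e⟩ := nonempty_shriek_single a j F
  obtain ⟨e2⟩ := gamma_Rpush a ((EtShriek.extZero j).obj F) n
  exact ⟨((Γtop (Spec (CommRingCat.of k))).mapIso ((homologyFunctor _ (n : ℤ)).mapIso e ≪≫
    (HTRsingle (EtCoh.push a) n).app _)).addCommGroupIsoToAddEquiv.trans e2⟩

theorem killedBy_of_iso {X : Scheme.{u}} {F G : EtCoh.Ab X} (e : F ≅ G) (n : ℕ) (h : EtCoh.KilledBy n F) :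
    EtCoh.KilledBy n G := by
  rw [Groth.Agent.EtpbcA.Present.killedBy_iff] at h ⊢
  have : n • 𝟙 G = e.inv ≫ (n • 𝟙 F) ≫ e.hom := by simp
  rw [this, h]
  simp

end single

theorem isTorsion_single {X : Scheme.{u}} (F : EtCoh.Ab X) (hF : EtCoh.IsTorsion F) (n : ℤ) :
    EtCoh.IsTorsion (DCoh.HDEt ((singleFunctor (EtCoh.Ab X) 0).obj F) n) := by
  rcases lt_trichotomy n 0 with h | h | h
  · exact Groth.Agent.Etrest.TorsEt.isTorsion_of_isZero_rat _
      (Functor.map_isZero _ (DerivedCategory.isZero_of_isGE _ 0 n h))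
  · subst h
    exact Groth.Agent.Etrest.TorsEt.isTorsion_of_iso
      ((singleFunctorCompHomologyFunctorIso (EtCoh.Ab X) 0).symm.app F) hF
  · exact Groth.Agent.Etrest.TorsEt.isTorsion_of_isZero_rat _
      (Functor.map_isZero _ (DerivedCategory.isZero_of_isLE _ 0 n h))

/-- Inverse image preserves torsion cohomology. -/
theorem isTorsion_pullD {X Y : Scheme.{u}} (f : X ⟶ Y) (K : DCoh.DEt Y)
    (ht : ∀ n : ℤ, EtCoh.IsTorsion (DCoh.HDEt K n)) (n : ℤ) :
    EtCoh.IsTorsion (DCoh.HDEt (((EtCoh.pull f).mapDerivedCategory).obj K) n) :=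
  Groth.Agent.Etrest.TorsEt.isTorsion_of_mono
    (Groth.Agent.Dcoh.MapDer.homologyMapDerApp (EtCoh.pull f) n K).hom
    (Groth.Agent.Etcore.Torsion.isTorsion_pull f _ (ht n))

/-- The derived projection/base change formula: `R(P/k)_! ≅ R(X/k)_! (X/k)^* R(Y/k)_!`. -/
theorem nonempty_main (k : Type u) [Field k]
    {X Y Xbar Ybar P : Scheme.{u}} (a : Xbar ⟶ Spec (CommRingCat.of k)) [IsProper a]
    (jX : X ⟶ Xbar) [IsOpenImmersion jX] (b : Ybar ⟶ Spec (CommRingCat.of k)) [IsProper b]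
    (jY : Y ⟶ Ybar) [IsOpenImmersion jY] (p : P ⟶ Spec (CommRingCat.of k)) [IsProper p]
    (jXY : pullback (jX ≫ a) (jY ≫ b) ⟶ P) [IsOpenImmersion jXY]
    (hp : jXY ≫ p = pullback.fst (jX ≫ a) (jY ≫ b) ≫ jX ≫ a)
    (F : EtCoh.Ab Y) (hF : EtCoh.IsTorsion F) :
    Nonempty ((DCoh.RpushEt P p).obj ((EtShriek.extZero jXY).mapDerivedCategory.obj
        ((singleFunctor _ 0).obj ((EtCoh.pull (pullback.snd (jX ≫ a) (jY ≫ b))).obj F))) ≅
      (GX a jX).obj ((DCoh.RpushEt Ybar b).obj ((EtShriek.extZero jY).mapDerivedCategory.obj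
        ((singleFunctor _ 0).obj F)))) := by
  have hX1 : CompactSpace Xbar := QuasiCompact.compactSpace_of_compactSpace a
  have hY1 : CompactSpace Ybar := QuasiCompact.compactSpace_of_compactSpace b
  have hP1 : CompactSpace P := QuasiCompact.compactSpace_of_compactSpace p
  have hX2 : IsLocallyNoetherian Xbar := LocallyOfFiniteType.isLocallyNoetherian a
  have hY2 : IsLocallyNoetherian Ybar := LocallyOfFiniteType.isLocallyNoetherian b
  have hP2 : IsLocallyNoetherian P := LocallyOfFiniteType.isLocallyNoetherian p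
  have : IsNoetherian Xbar := { }
  have : IsNoetherian Ybar := { }
  have : IsNoetherian P := { }
  have hX3 : IsLocallyNoetherian X := isLocallyNoetherian_of_isOpenImmersion jX
  have hY3 : IsLocallyNoetherian Y := isLocallyNoetherian_of_isOpenImmersion jY
  have hXY3 : IsLocallyNoetherian ↑(pullback (jX ≫ a) (jY ≫ b)) := isLocallyNoetherian_of_isOpenImmersion jXY
  have hc : ∀ {U V : Scheme.{u}} (j : U ⟶ V) [IsOpenImmersion j] [IsNoetherian V], CompactSpace U := by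
    intro U V j _ _
    have := j.isOpenEmbedding.isInducing.noetherianSpace
    infer_instance
  have : CompactSpace X := hc jX
  have : CompactSpace Y := hc jY
  have : CompactSpace ↑(pullback (jX ≫ a) (jY ≫ b)) := hc jXY
  clear hc
  let p1 : pullback (jX ≫ a) (jY ≫ b) ⟶ X := pullback.fst (jX ≫ a) (jY ≫ b)
  let p2 : pullback (jX ≫ a) (jY ≫ b) ⟶ Y := pullback.snd (jX ≫ a) (jY ≫ b)
  have hp12 : IsPullback p1 p2 (jX ≫ a) (jY ≫ b) := IsPullback.of_hasPullback _ _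
  let i : pullback (jX ≫ a) (jY ≫ b) ⟶ pullback (jX ≫ a) b := pullback.lift p1 (p2 ≫ jY) (by
    rw [Category.assoc, hp12.w])
  have hi1 : i ≫ pullback.fst (jX ≫ a) b = p1 := pullback.lift_fst _ _ _
  have hi2 : i ≫ pullback.snd (jX ≫ a) b = p2 ≫ jY := pullback.lift_snd _ _ _
  have sq1 : IsPullback i p2 (pullback.snd (jX ≫ a) b) jY :=
    IsPullback.of_right (h₁₂ := pullback.fst (jX ≫ a) b) (v₁₃ := jX ≫ a) (h₂₂ := b) (by rw [hi1]; exact hp12) hi2
      (IsPullback.of_hasPullback (jX ≫ a) b)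
  have hi : IsOpenImmersion i := MorphismProperty.of_isPullback sq1.flip (inferInstance : IsOpenImmersion jY)
  let cX : DEt.Compactification (jX ≫ a) := ⟨Xbar, jX, a, inferInstance, inferInstance, rfl⟩
  let cY : DEt.Compactification (jY ≫ b) := ⟨Ybar, jY, b, inferInstance, inferInstance, rfl⟩
  let c' : DEt.Compactification p1 := ⟨pullback (jX ≫ a) b, i, pullback.fst (jX ≫ a) b, hi, inferInstance, hi1⟩
  let e : DEt.Compactification (p1 ≫ jX ≫ a) := ⟨P, jXY, p, inferInstance, inferInstance, hp⟩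
  let K : DCoh.DEt Y := (singleFunctor _ 0).obj F
  have hb : ∃ a : ℤ, ∀ n : ℤ, n < a → IsZero (DCoh.HDEt K n) :=
    ⟨0, fun n hn => DerivedCategory.isZero_of_isGE _ 0 n hn⟩
  have ht : ∀ n : ℤ, EtCoh.IsTorsion (DCoh.HDEt K n) := isTorsion_single F hF
  have : IsSeparated (jY ≫ b) := inferInstance
  have : QuasiCompact jX := inferInstance
  have : QuasiCompact jY := inferInstance
  have : QuasiCompact jXY := inferInstance
  have i1 : IsSeparated p1 := MorphismProperty.of_isPullback hp12.flip (inferInstance : IsSeparated (jY ≫ b))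
  have i2 : LocallyOfFiniteType p1 :=
    MorphismProperty.of_isPullback hp12.flip (inferInstance : LocallyOfFiniteType (jY ≫ b))
  have i3 : QuasiCompact p1 := MorphismProperty.of_isPullback hp12.flip (inferInstance : QuasiCompact (jY ≫ b))
  obtain ⟨e1⟩ := Groth.Agent.S0773.result (jY ≫ b) (jX ≫ a) p1 p2 hp12.flip cY c' K hb ht
  obtain ⟨e2⟩ := Groth.Agent.S0768.result p1 (jX ≫ a) c' cX e ((EtCoh.pull p2).mapDerivedCategory.obj K)
    ⟨0, fun n hn => (Functor.map_isZero _ (DerivedCategory.isZero_of_isGE K 0 n hn)).of_iso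
      (Groth.Agent.Dcoh.MapDer.homologyMapDerApp (EtCoh.pull p2) n K)⟩ (isTorsion_pullD p2 K ht)
  exact ⟨(DCoh.RpushEt P p).mapIso ((EtShriek.extZero jXY).mapDerivedCategory.mapIso
    (((EtCoh.pull p2).mapDerivedCategorySingleFunctor 0).symm.app F)) ≪≫ e2.symm ≪≫
    (DCoh.RpushEt Xbar a).mapIso ((EtShriek.extZero jX).mapDerivedCategory.mapIso e1.symm) ≪≫
    (rpushIso a).app _⟩

/-- The Künneth property of `RΓ_c(Y, ℤ/ℓ)`. -/
theorem kp_shriek (k : Type u) [Field k] [IsAlgClosed k]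
    {X Y Xbar Ybar : Scheme.{u}} (a : Xbar ⟶ Spec (CommRingCat.of k)) [IsProper a]
    (jX : X ⟶ Xbar) [IsOpenImmersion jX] (b : Ybar ⟶ Spec (CommRingCat.of k)) [IsProper b]
    (jY : Y ⟶ Ybar) [IsOpenImmersion jY] (ℓ : ℕ) [Fact ℓ.Prime] :
    KP (Γtop (Spec (CommRingCat.of k))) (Phi a jX) (Cc jX ℓ)
      ((DCoh.RpushEt Ybar b).obj ((EtShriek.extZero jY).mapDerivedCategory.obj
        ((singleFunctor _ 0).obj (EtCoh.const Y (ZMod ℓ))))) := by
  have hℓ : 0 < ℓ := (Fact.out : ℓ.Prime).pos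
  have hY1 : CompactSpace Ybar := QuasiCompact.compactSpace_of_compactSpace b
  have hY2 : IsLocallyNoetherian Ybar := LocallyOfFiniteType.isLocallyNoetherian b
  have : IsNoetherian Ybar := { }
  have hY3 : IsLocallyNoetherian Y := isLocallyNoetherian_of_isOpenImmersion jY
  have : CompactSpace Y := by
    have := jY.isOpenEmbedding.isInducing.noetherianSpace
    infer_instance
  let cY : DEt.Compactification (jY ≫ b) := ⟨Ybar, jY, b, inferInstance, inferInstance, rfl⟩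
  have hk : EtCoh.KilledBy ℓ (EtCoh.const Y (ZMod ℓ)) :=
    Groth.Agent.Etrest.ConstBasic.killedBy_const Y (ZMod ℓ) ℓ (by simp)
  have hF : EtCoh.IsTorsion (EtCoh.const Y (ZMod ℓ)) :=
    Groth.Agent.Etrest.ConstBasic.isTorsion_of_killedBy hℓ hk
  have hne : NeZero ℓ := ⟨hℓ.ne'⟩
  have hfin : Finite (ZMod ℓ) := inferInstance
  set L := (DCoh.RpushEt Ybar b).obj ((EtShriek.extZero jY).mapDerivedCategory.obj
        ((singleFunctor _ 0).obj (EtCoh.const Y (ZMod ℓ)))) with hL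
  obtain ⟨N, hN⟩ := Groth.Agent.S0770.result (jY ≫ b) cY
  have hvan := hN ((singleFunctor _ 0).obj (EtCoh.const Y (ZMod ℓ))) (isTorsion_single _ hF) 0 0 (by
    rintro i (hi | hi)
    · exact DerivedCategory.isZero_of_isGE _ 0 i hi
    · exact DerivedCategory.isZero_of_isLE _ 0 i hi)
  have h1 : L.IsGE 0 := by
    rw [DerivedCategory.isGE_iff]
    intro i hi
    exact hvan i (Or.inl hi)
  have h2 : L.IsLE (0 + N) := by
    rw [DerivedCategory.isLE_iff]
    intro i hi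
    exact hvan i (Or.inr hi)
  have hadd : (constantSheaf (Spec (CommRingCat.of k)).smallEtaleTopology AddCommGrpCat.{u + 1}).Additive :=
    Groth.Agent.Etdl.H439.ConstSES.additive_constantSheaf _
  refine kp_of_bounded (Γtop (Spec (CommRingCat.of k))) (Phi a jX) (Cc jX ℓ)
    (constantSheaf (Spec (CommRingCat.of k)).smallEtaleTopology AddCommGrpCat.{u + 1}) ℓ
    (Groth.Agent.Etdl.H439.PointPD.pd_constZMod k ℓ hℓ) (kp_const a jX ℓ) L (0 + N) ?_
  intro q
  obtain ⟨e⟩ := nonempty_gamma_shriek b jY (EtCoh.const Y (ZMod ℓ)) q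
  obtain ⟨e'⟩ := nonempty_shriek_single b jY (EtCoh.const Y (ZMod ℓ))
  have hf : Finite (EtCoh.H Ybar ((EtShriek.extZero jY).obj (EtCoh.const Y (ZMod ℓ))) q) :=
    Groth.Agent.S3111.result b jY ℓ hℓ _ (Groth.Agent.Etrest.ConstBasic.isConstructible_const Y (ZMod ℓ)) hk q
  have hf' : Finite (EtCoh.sect (DCoh.HDEt L (q : ℤ)) (EtCoh.top (Spec (CommRingCat.of k)))) :=
    Finite.of_equiv _ e.symm.toEquiv
  have hk' : EtCoh.KilledBy ℓ (DCoh.HDEt L (q : ℤ)) :=
    killedBy_of_iso ((homologyFunctor _ (q : ℤ)).mapIso e' ≪≫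
      (HTRsingle (EtCoh.push b) q).app ((EtShriek.extZero jY).obj (EtCoh.const Y (ZMod ℓ)))).symm ℓ
      (Groth.Agent.Sga4B.ShriekTools.killedBy_map (EtCoh.Rpush b q) ℓ _
        (Groth.Agent.Sga4B.ShriekTools.killedBy_extZero jY ℓ _ hk))
  obtain ⟨M, i1, i2, hM, ⟨ε⟩⟩ := Groth.Agent.Sga4B.PointConst.exists_iso_const (DCoh.HDEt L (q : ℤ)) ℓ hk'
  refine ⟨AddCommGrpCat.of (ULift.{u + 1} M), inferInstance, ?_, ⟨ε⟩⟩
  intro x
  apply ULift.down_injective
  exact hM x.down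

/-- Künneth formula for cohomology with proper support. -/
theorem kunneth (k : Type u) [Field k] [IsAlgClosed k]
    {X Y Xbar Ybar P : Scheme.{u}} (a : Xbar ⟶ Spec (CommRingCat.of k)) [IsProper a]
    (jX : X ⟶ Xbar) [IsOpenImmersion jX] (b : Ybar ⟶ Spec (CommRingCat.of k)) [IsProper b]
    (jY : Y ⟶ Ybar) [IsOpenImmersion jY] (p : P ⟶ Spec (CommRingCat.of k)) [IsProper p]
    (jXY : pullback (jX ≫ a) (jY ≫ b) ⟶ P) [IsOpenImmersion jXY]
    (hp : jXY ≫ p = pullback.fst (jX ≫ a) (jY ≫ b) ≫ jX ≫ a)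
    (ℓ : ℕ) [Fact ℓ.Prime] (m : ℕ) :
    Nonempty (EtCoh.H P ((EtShriek.extZero jXY).obj (EtCoh.const (pullback (jX ≫ a) (jY ≫ b)) (ZMod ℓ))) m ≃+
      DirectSum (Fin (m + 1)) fun i => (EtCoh.H Xbar ((EtShriek.extZero jX).obj (EtCoh.const X (ZMod ℓ))) i ⊗[ℤ]
        EtCoh.H Ybar ((EtShriek.extZero jY).obj (EtCoh.const Y (ZMod ℓ))) (m - i))) := by
  have hℓ : 0 < ℓ := (Fact.out : ℓ.Prime).pos
  have hF : EtCoh.IsTorsion (EtCoh.const Y (ZMod ℓ)) :=
    Groth.Agent.Etrest.ConstBasic.isTorsion_of_killedBy hℓ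
      (Groth.Agent.Etrest.ConstBasic.killedBy_const Y (ZMod ℓ) ℓ (by simp))
  obtain ⟨e⟩ := nonempty_main k a jX b jY p jXY hp (EtCoh.const Y (ZMod ℓ)) hF
  obtain ⟨κ⟩ := kp_shriek k a jX b jY ℓ m
  obtain ⟨c⟩ := nonempty_pull_const (pullback.snd (jX ≫ a) (jY ≫ b)) (ZMod ℓ)
  obtain ⟨g⟩ := nonempty_gamma_shriek p jXY
    ((EtCoh.pull (pullback.snd (jX ≫ a) (jY ≫ b))).obj (EtCoh.const Y (ZMod ℓ))) m
  have g' : EtCoh.H P ((EtShriek.extZero jXY).obj ((EtCoh.pull (pullback.snd (jX ≫ a) (jY ≫ b))).obj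
      (EtCoh.const Y (ZMod ℓ)))) m ≃+
      EtCoh.H P ((EtShriek.extZero jXY).obj (EtCoh.const (pullback (jX ≫ a) (jY ≫ b)) (ZMod ℓ))) m :=
    ((EtCoh.HF P m).mapIso ((EtShriek.extZero jXY).mapIso c)).addCommGroupIsoToAddEquiv
  have h : ∀ q : ℕ, Nonempty ((Γtop (Spec (CommRingCat.of k))).obj
      ((homologyFunctor _ (q : ℤ)).obj ((DCoh.RpushEt Ybar b).obj
        ((EtShriek.extZero jY).mapDerivedCategory.obj ((singleFunctor _ 0).obj (EtCoh.const Y (ZMod ℓ)))))) ≃+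
      EtCoh.H Ybar ((EtShriek.extZero jY).obj (EtCoh.const Y (ZMod ℓ))) q) :=
    fun q => nonempty_gamma_shriek b jY (EtCoh.const Y (ZMod ℓ)) q
  have t : ∀ i : Fin (m + 1), Nonempty ((Cc jX ℓ i ⊗[ℤ] (Γtop (Spec (CommRingCat.of k))).obj
      ((homologyFunctor _ ((m - i : ℕ) : ℤ)).obj ((DCoh.RpushEt Ybar b).obj
        ((EtShriek.extZero jY).mapDerivedCategory.obj ((singleFunctor _ 0).obj (EtCoh.const Y (ZMod ℓ))))))) ≃+
      (EtCoh.H Xbar ((EtShriek.extZero jX).obj (EtCoh.const X (ZMod ℓ))) i ⊗[ℤ]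
        EtCoh.H Ybar ((EtShriek.extZero jY).obj (EtCoh.const Y (ZMod ℓ))) (m - i))) := by
    intro i
    obtain ⟨h⟩ := h (m - i)
    exact ⟨(TensorProduct.congr (LinearEquiv.refl ℤ _) h.toIntLinearEquiv).toAddEquiv⟩
  exact ⟨g'.symm.trans (g.symm.trans (((Γtop (Spec (CommRingCat.of k))).mapIso
    ((homologyFunctor _ (m : ℤ)).mapIso e)).addCommGroupIsoToAddEquiv.trans (κ.trans
      ((AddEquiv.piCongrRight fun i => (t i).some).trans
        (DirectSum.addEquivProd _).symm))))⟩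

end Groth.Agent.Etdl.H439.Asm
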