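import Groth.Agent.Etrest.ConstBasic
import Mathlib.Algebra.Category.Grp.Abelian
import Mathlib.Algebra.Homology.ShortComplex.Ab
import Mathlib.Algebra.Homology.ShortComplex.ExactFunctor

/-!
# `0 ⟶ ℤ ⟶ ℤ ⟶ ℤ/n ⟶ 0` for constant étale sheaves (copy of a section of `Etcore.FEtH1`, with fewer imports)
-/

set_option autoImplicit false
universe u

open CategoryTheory CategoryTheory.Limits AlgebraicGeometry Opposite

namespace Groth.Agent.Etdl.H439.ConstSES

/-- multiplication by `n` on `ℤ`, one universe up, and the projection to `ℤ/n` -/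
def toZMod (n : ℕ) : AddCommGrpCat.of (ULift.{u + 1} ℤ) ⟶ AddCommGrpCat.of (ULift.{u + 1} (ZMod n)) :=
  AddCommGrpCat.ofHom
    { toFun := fun x => ULift.up ((x.down : ℤ) : ZMod n)
      map_zero' := by
        apply ULift.down_injective
        exact Int.cast_zero
      map_add' := fun x y => by
        apply ULift.down_injective
        exact Int.cast_add _ _ }

theorem toZMod_comp (n : ℕ) :
    (n • 𝟙 (AddCommGrpCat.of (ULift.{u + 1} ℤ))) ≫ toZMod.{u} n = 0 := by
  refine AddCommGrpCat.hom_ext (AddMonoidHom.ext fun x => ?_)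
  apply ULift.down_injective
  change (((n • 𝟙 (AddCommGrpCat.of (ULift.{u + 1} ℤ)) :
    AddCommGrpCat.of (ULift.{u + 1} ℤ) ⟶ AddCommGrpCat.of (ULift.{u + 1} ℤ)).hom x).down : ZMod n) = 0
  rw [AddCommGrpCat.hom_nsmul]
  change ((n • x.down : ℤ) : ZMod n) = 0
  simp

/-- `0 ⟶ ℤ ⟶ ℤ ⟶ ℤ/n ⟶ 0` -/
noncomputable def zcx (n : ℕ) : ShortComplex AddCommGrpCat.{u + 1} :=
  ShortComplex.mk (n • 𝟙 _) (toZMod.{u} n) (toZMod_comp n)

theorem zcx_shortExact (n : ℕ) (hn : 0 < n) : (zcx.{u} n).ShortExact where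
  exact := by
    rw [ShortComplex.ab_exact_iff]
    intro x hx
    have h1 : ((x.down : ℤ) : ZMod n) = 0 := congrArg ULift.down hx
    rw [ZMod.intCast_zmod_eq_zero_iff_dvd] at h1
    obtain ⟨k, hk⟩ := h1
    refine ⟨ULift.up k, ?_⟩
    apply ULift.down_injective
    have h2 := DFunLike.congr_fun (AddCommGrpCat.hom_nsmul n
      (𝟙 (AddCommGrpCat.of (ULift.{u + 1} ℤ)))) (ULift.up k)
    refine (congrArg ULift.down h2).trans ?_
    change n • k = x.down
    rw [hk, nsmul_eq_mul]
  mono_f := by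
    rw [AddCommGrpCat.mono_iff_injective]
    intro x y h
    have h2 := fun z => DFunLike.congr_fun (AddCommGrpCat.hom_nsmul n
      (𝟙 (AddCommGrpCat.of (ULift.{u + 1} ℤ)))) z
    have h3 : n • x.down = n • y.down :=
      (congrArg ULift.down (h2 x)).symm.trans ((congrArg ULift.down h).trans (congrArg ULift.down (h2 y)))
    apply ULift.down_injective
    simpa [hn.ne'] using h3
  epi_g := by
    rw [AddCommGrpCat.epi_iff_surjective]
    intro y
    obtain ⟨k, hk⟩ := ZMod.intCast_surjective y.down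
    exact ⟨ULift.up k, ULift.down_injective hk⟩

theorem preservesFiniteLimits_constantSheaf (X : Scheme.{u}) :
    PreservesFiniteLimits (constantSheaf X.smallEtaleTopology AddCommGrpCat.{u + 1}) := by
  delta constantSheaf
  infer_instance

theorem preservesFiniteColimits_constantSheaf (X : Scheme.{u}) :
    PreservesFiniteColimits (constantSheaf X.smallEtaleTopology AddCommGrpCat.{u + 1}) := by
  have : PreservesColimitsOfSize.{0, 0} (constantSheaf X.smallEtaleTopology AddCommGrpCat.{u + 1}) :=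
    (constantSheafAdj X.smallEtaleTopology AddCommGrpCat.{u + 1} (Groth.Agent.Etrest.ConstBasic.isTerminalTop X)).leftAdjoint_preservesColimits
  exact PreservesColimitsOfSize.preservesFiniteColimits _

theorem additive_constantSheaf (X : Scheme.{u}) :
    (constantSheaf X.smallEtaleTopology AddCommGrpCat.{u + 1}).Additive := by
  have := preservesFiniteLimits_constantSheaf X
  exact Functor.additive_of_preserves_binary_products _

/-- `ℤ ⟶ ℤ/n` -/
noncomputable def zq (X : Scheme.{u}) (n : ℕ) : EtCoh.const X ℤ ⟶ EtCoh.const X (ZMod n) :=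
  (constantSheaf X.smallEtaleTopology AddCommGrpCat.{u + 1}).map (toZMod.{u} n)

theorem const_shortExact (X : Scheme.{u}) (n : ℕ) (hn : 0 < n) :
    ∃ w : (n • 𝟙 (EtCoh.const X ℤ)) ≫ zq X n = 0,
      (ShortComplex.mk (n • 𝟙 (EtCoh.const X ℤ)) (zq X n) w).ShortExact := by
  have := preservesFiniteLimits_constantSheaf X
  have := preservesFiniteColimits_constantSheaf X
  have := additive_constantSheaf X
  have h := (zcx_shortExact.{u} n hn).map_of_exact
    (constantSheaf X.smallEtaleTopology AddCommGrpCat.{u + 1})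
  have e : (constantSheaf X.smallEtaleTopology AddCommGrpCat.{u + 1}).map
      (n • 𝟙 (AddCommGrpCat.of (ULift.{u + 1} ℤ))) = n • 𝟙 (EtCoh.const X ℤ) := by
    rw [Functor.map_nsmul, CategoryTheory.Functor.map_id]
  have w : (n • 𝟙 (EtCoh.const X ℤ)) ≫ zq X n = 0 := by
    rw [← e]
    exact ((zcx.{u} n).map (constantSheaf X.smallEtaleTopology AddCommGrpCat.{u + 1})).zero
  refine ⟨w, ?_⟩
  refine ShortComplex.shortExact_of_iso ?_ h
  refine ShortComplex.isoMk (Iso.refl _) (Iso.refl _) (Iso.refl _) ?_ ?_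
  · change 𝟙 _ ≫ (n • 𝟙 (EtCoh.const X ℤ)) = (constantSheaf X.smallEtaleTopology AddCommGrpCat.{u + 1}).map
      (n • 𝟙 (AddCommGrpCat.of (ULift.{u + 1} ℤ))) ≫ 𝟙 _
    rw [e, Category.id_comp, Category.comp_id]
  · change 𝟙 _ ≫ zq X n = zq X n ≫ 𝟙 _
    rw [Category.id_comp, Category.comp_id]


end Groth.Agent.Etdl.H439.ConstSES
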