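import Groth.Agent.LoccohB.Devissage
import Mathlib.CategoryTheory.Abelian.Projective.Dimension
import Mathlib.Algebra.Homology.DerivedCategory.Ext.TStructure

/-!
# Splitting of bounded objects whose cohomology objects have projective dimension `≤ 1`

* `hom_eq_zero`: `X` of projective dimension `< 2`, `M` bounded with cohomology in degrees `≤ b - 1`:
  every `X[-b] ⟶ M[1]` is zero.
* `devissage_split`: a property of objects of the derived category stable under isomorphisms and binary
  biproducts which holds for zero objects and all `H^i(X)[-i]` holds for the bounded object `X`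
  when all `H^i(X)` have projective dimension `< 2`.
-/

set_option autoImplicit false
universe w v u

open CategoryTheory CategoryTheory.Limits Pretriangulated DerivedCategory

namespace Groth.Agent.Etdl.H439.Hered

variable {C : Type u} [Category.{v} C] [Abelian C] [HasDerivedCategory.{w} C]

/-- Morphisms between shifted single complexes are extensions. -/
theorem single_hom_eq_zero (X F : C) (n : ℕ) [HasProjectiveDimensionLT X n] (b i : ℤ)
    (hi : i + n ≤ b + 1)
    (f : (singleFunctor C b).obj X ⟶ ((singleFunctor C i).obj F)⟦(1 : ℤ)⟧) : f = 0 := by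
  have hE : HasExt.{w} C := hasExt_of_hasDerivedCategory C
  obtain ⟨k, hk⟩ := Int.le.dest hi
  let e1 : (singleFunctor C 0).obj X ≅ ((singleFunctor C b).obj X)⟦b⟧ :=
    ((singleFunctors C).shiftIso b 0 b (by simp)).symm.app X
  let e2 : ((singleFunctor C 0).obj F)⟦((n + k : ℕ) : ℤ)⟧ ≅
      (((singleFunctor C i).obj F)⟦(1 : ℤ)⟧)⟦b⟧ :=
    (shiftFunctor (DerivedCategory C) ((n + k : ℕ) : ℤ)).mapIso
        (((singleFunctors C).shiftIso i 0 i (by simp)).symm.app F) ≪≫
      ((shiftFunctorAdd' (DerivedCategory C) i ((n + k : ℕ) : ℤ) (1 + b) (by push_cast; lia)).app _).symm ≪≫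
      (shiftFunctorAdd (DerivedCategory C) 1 b).app _
  have h : e1.hom ≫ f⟦b⟧' ≫ e2.inv = 0 := by
    let α : Abelian.Ext X F (n + k) := Abelian.Ext.homEquiv.symm (e1.hom ≫ f⟦b⟧' ≫ e2.inv)
    have hα : α = 0 := α.eq_zero_of_hasProjectiveDimensionLT n (by lia)
    have h2 : α.hom = e1.hom ≫ f⟦b⟧' ≫ e2.inv := Equiv.apply_symm_apply _ _
    rw [← h2, hα, Abelian.Ext.zero_hom]
  have h' : f⟦b⟧' = 0 := by
    rw [← cancel_epi e1.hom, ← cancel_mono e2.inv, Category.assoc, h]
    simp
  apply (shiftFunctor (DerivedCategory C) b).map_injective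
  rw [h', Functor.map_zero]

/-- Vanishing of the connecting morphism. -/
theorem hom_eq_zero (X : C) [HasProjectiveDimensionLT X 2] (b : ℤ) (M : DerivedCategory C) (a : ℤ)
    [M.IsGE a] [M.IsLE (b - 1)] (f : (singleFunctor C b).obj X ⟶ M⟦(1 : ℤ)⟧) : f = 0 := by
  let P : ObjectProperty (DerivedCategory C) := fun M =>
    ∀ f : (singleFunctor C b).obj X ⟶ M⟦(1 : ℤ)⟧, f = 0
  have hP1 : P.IsClosedUnderIsomorphisms := ⟨fun {M N} e h f => by
    have := h (f ≫ (shiftFunctor (DerivedCategory C) (1 : ℤ)).map e.inv)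
    rw [← cancel_mono ((shiftFunctor (DerivedCategory C) (1 : ℤ)).map e.inv), this, zero_comp]⟩
  refine Groth.Agent.LoccohB.Devissage.devissage P ?_ ?_ M a (b - 1) ?_ f
  · intro Z hZ f
    exact ((shiftFunctor (DerivedCategory C) (1 : ℤ)).map_isZero hZ).eq_of_tgt _ _
  · intro T hT h1 h3 f
    have hT' := Triangle.shift_distinguished T hT 1
    obtain ⟨g, hg⟩ := Triangle.coyoneda_exact₂ _ hT' f (by
      have h := h3 (f ≫ (shiftFunctor (DerivedCategory C) (1 : ℤ)).map T.mor₂)
      change f ≫ ((1 : ℤ).negOnePow • (shiftFunctor (DerivedCategory C) (1 : ℤ)).map T.mor₂) = 0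
      rw [Linear.comp_units_smul, h, smul_zero])
    have hg0 : g = 0 := h1 g
    rw [hg, hg0]
    exact zero_comp
  · intro i
    by_cases hi : i ≤ b - 1
    · intro f
      exact single_hom_eq_zero X _ 2 b i (by push_cast; lia) f
    · intro f
      have h0 : IsZero ((homologyFunctor C i).obj M) := M.isZero_of_isLE (b - 1) i (by lia)
      exact ((shiftFunctor (DerivedCategory C) (1 : ℤ)).map_isZero
        ((singleFunctor C i).map_isZero h0)).eq_of_tgt _ _

/-- Dévissage along split truncations. -/
theorem devissage_split (P : ObjectProperty (DerivedCategory C)) [P.IsClosedUnderIsomorphisms]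
    (hP0 : ∀ Z : DerivedCategory C, IsZero Z → P Z)
    (hP : ∀ X Y : DerivedCategory C, P X → P Y → P (X ⊞ Y))
    (X : DerivedCategory C) (a b : ℤ) [X.IsGE a] [X.IsLE b]
    (hpd : ∀ i, HasProjectiveDimensionLT ((homologyFunctor C i).obj X) 2)
    (hX : ∀ i, P ((singleFunctor C i).obj ((homologyFunctor C i).obj X))) : P X := by
  obtain ⟨n, hn⟩ : ∃ n : ℕ, b + 1 - a ≤ n := ⟨(b + 1 - a).toNat, Int.self_le_toNat _⟩
  induction n generalizing X b with
  | zero =>
    exact hP0 X (Groth.Agent.LoccohB.Devissage.isZero_of_isGE_of_isLE X a b (by simp at hn; lia))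
  | succ n ih =>
    obtain ⟨T, hT, rfl, h1, h3, hi1, hi3⟩ :=
      Groth.Agent.LoccohB.Devissage.exists_trunc X (b - 1) b (by lia)
    have hGE : T.obj₁.IsGE a := by
      rw [isGE_iff]
      intro i hi
      by_cases hi' : i ≤ b - 1
      · have := hi1 i hi'
        exact (T.obj₂.isZero_of_isGE a i hi).of_iso (asIso ((homologyFunctor C i).map T.mor₁))
      · exact T.obj₁.isZero_of_isLE (b - 1) i (by lia)
    have hLE : T.obj₃.IsLE b := by
      rw [isLE_iff]
      intro i hi
      have := hi3 i (by lia)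
      exact (T.obj₂.isZero_of_isLE b i hi).of_iso
        (asIso ((homologyFunctor C i).map T.mor₂)).symm
    obtain ⟨e⟩ := Groth.Agent.LoccohB.Devissage.nonempty_iso_single T.obj₃ b
    have hi3b := hi3 b le_rfl
    let e' : T.obj₃ ≅ (singleFunctor C b).obj ((homologyFunctor C b).obj T.obj₂) :=
      e ≪≫ (singleFunctor C b).mapIso (asIso ((homologyFunctor C b).map T.mor₂)).symm
    have hpdb := hpd b
    have h0 : T.mor₃ = 0 := by
      have := hom_eq_zero ((homologyFunctor C b).obj T.obj₂) b T.obj₁ a (e'.inv ≫ T.mor₃)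
      rw [← cancel_epi e'.inv, this, comp_zero]
    obtain ⟨eT, -, -⟩ := exists_iso_binaryBiproduct_of_distTriang T hT h0
    refine P.prop_of_iso eT.symm (hP _ _ ?_ (P.prop_of_iso e'.symm (hX b)))
    refine ih T.obj₁ (b - 1) ?_ ?_ (by push_cast at hn; lia)
    · intro i
      by_cases hi' : i ≤ b - 1
      · have := hi1 i hi'
        have := hpd i
        exact hasProjectiveDimensionLT_of_iso (asIso ((homologyFunctor C i).map T.mor₁)).symm 2
      · have := (T.obj₁.isZero_of_isLE (b - 1) i (by lia)).hasProjectiveDimensionLT_zero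
        exact hasProjectiveDimensionLT_of_ge _ 0 2 (by lia)
    · intro i
      by_cases hi' : i ≤ b - 1
      · have := hi1 i hi'
        exact P.prop_of_iso ((singleFunctor C i).mapIso
          (asIso ((homologyFunctor C i).map T.mor₁)).symm) (hX i)
      · exact hP0 _ ((singleFunctor C i).map_isZero (T.obj₁.isZero_of_isLE (b - 1) i (by lia)))

end Groth.Agent.Etdl.H439.Hered
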