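import Groth.Agent.Etdl.H439.Hered
import Groth.Agent.Etdl.H439.Alg

/-!
# The numerical Künneth property for objects of a derived category

`A` abelian, `Γ : A ⥤ Ab` additive, `Φ m : D(A) ⥤ Ab` additive (`m : ℕ`), `C i` abelian groups.
`KP Γ Φ C L`: for all `m`, `Φ m L ≃+ ∏_{i ≤ m} C i ⊗ Γ(H^{m-i} L)`.
-/

set_option autoImplicit false
universe w w' v u

open CategoryTheory CategoryTheory.Limits TensorProduct DerivedCategory

namespace Groth.Agent.Etdl.H439.KProp

open Groth.Agent.Etdl.H439.Alg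

variable {A : Type u} [Category.{v} A] [Abelian A] [HasDerivedCategory.{w'} A]
  (Γ : A ⥤ AddCommGrpCat.{w}) [Γ.Additive]
  (Φ : ℕ → DerivedCategory A ⥤ AddCommGrpCat.{w}) [∀ m, (Φ m).Additive]
  (C : ℕ → Type w) [∀ i, AddCommGroup (C i)]

/-- The right hand side of the Künneth formula. -/
abbrev Rhs (L : DerivedCategory A) (m : ℕ) : Type w :=
  (i : Fin (m + 1)) → C i ⊗[ℤ] Γ.obj ((homologyFunctor A ((m - i : ℕ) : ℤ)).obj L)

/-- The Künneth property. -/
def KP : ObjectProperty (DerivedCategory A) := fun L =>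
  ∀ m : ℕ, Nonempty ((Φ m).obj L ≃+ Rhs Γ C L m)

instance : (KP Γ Φ C).IsClosedUnderIsomorphisms := ⟨fun {L L'} e h m => by
  obtain ⟨f⟩ := h m
  exact ⟨((Φ m).mapIso e.symm).addCommGroupIsoToAddEquiv.trans (f.trans (AddEquiv.piCongrRight fun i =>
    (TensorProduct.congr (LinearEquiv.refl ℤ (C i))
      (Γ.mapIso ((homologyFunctor A ((m - i : ℕ) : ℤ)).mapIso
        e)).addCommGroupIsoToAddEquiv.toIntLinearEquiv).toAddEquiv))⟩⟩

theorem subsingleton_of_isZero {V : AddCommGrpCat.{w}} (h : IsZero V) : Subsingleton V :=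
  AddCommGrpCat.subsingleton_of_isZero h

theorem subsingleton_tensor (M N : Type w) [AddCommGroup M] [AddCommGroup N] [Subsingleton N] :
    Subsingleton (M ⊗[ℤ] N) := by
  refine ⟨fun a b => ?_⟩
  have h : ∀ x : M ⊗[ℤ] N, x = 0 := by
    intro x
    induction x using TensorProduct.induction_on with
    | zero => rfl
    | tmul c z => rw [Subsingleton.elim z 0, TensorProduct.tmul_zero]
    | add a b ha hb => rw [ha, hb, add_zero]
  rw [h a, h b]

/-- additive equivalence of trivial groups -/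
def addEquivOfSubsingleton (M N : Type w) [AddCommGroup M] [AddCommGroup N] [hM : Subsingleton M]
    [hN : Subsingleton N] : M ≃+ N where
  toFun _ := 0
  invFun _ := 0
  left_inv _ := hM.elim _ _
  right_inv _ := hN.elim _ _
  map_add' _ _ := hN.elim _ _

theorem kp_of_isZero (Z : DerivedCategory A) (hZ : IsZero Z) : KP Γ Φ C Z := by
  intro m
  have h1 : Subsingleton ((Φ m).obj Z) := subsingleton_of_isZero ((Φ m).map_isZero hZ)
  have h2 : ∀ i : Fin (m + 1), Subsingleton (C i ⊗[ℤ] Γ.obj ((homologyFunctor A ((m - i : ℕ) : ℤ)).obj Z)) := by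
    intro i
    have : Subsingleton (Γ.obj ((homologyFunctor A ((m - i : ℕ) : ℤ)).obj Z)) :=
      subsingleton_of_isZero (Γ.map_isZero ((homologyFunctor A _).map_isZero hZ))
    exact subsingleton_tensor _ _
  have h3 : Subsingleton (Rhs Γ C Z m) := inferInstance
  exact ⟨addEquivOfSubsingleton _ _⟩

theorem kp_biprod (L L' : DerivedCategory A) (h : KP Γ Φ C L) (h' : KP Γ Φ C L') :
    KP Γ Φ C (L ⊞ L') := by
  intro m
  obtain ⟨f⟩ := h m
  obtain ⟨f'⟩ := h' m
  let e : ∀ i : Fin (m + 1), C i ⊗[ℤ] Γ.obj ((homologyFunctor A ((m - i : ℕ) : ℤ)).obj (L ⊞ L')) ≃+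
      (C i ⊗[ℤ] Γ.obj ((homologyFunctor A ((m - i : ℕ) : ℤ)).obj L)) ×
      (C i ⊗[ℤ] Γ.obj ((homologyFunctor A ((m - i : ℕ) : ℤ)).obj L')) := fun i =>
    (TensorProduct.congr (LinearEquiv.refl ℤ (C i))
      (mapBiprodAddEquiv (homologyFunctor A ((m - i : ℕ) : ℤ) ⋙ Γ) L L').toIntLinearEquiv ≪≫ₗ
      TensorProduct.prodRight ℤ ℤ _ _ _).toAddEquiv
  exact ⟨(mapBiprodAddEquiv (Φ m) L L').trans ((AddEquiv.prodCongr f f').trans
    ((piProdEquiv _ _).symm.trans (AddEquiv.piCongrRight e).symm))⟩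

/-- The Künneth property for an object concentrated in one degree. -/
theorem kp_single (S : A) (ℓ : ℕ) (q : ℕ)
    (h1 : ∀ n m : ℕ, q + n = m → Nonempty ((Φ m).obj ((singleFunctor A (q : ℤ)).obj S) ≃+ C n))
    (h2 : ∀ m : ℕ, m < q → IsZero ((Φ m).obj ((singleFunctor A (q : ℤ)).obj S)))
    (h3 : Nonempty (Γ.obj S ≃+ ZMod ℓ)) (h4 : ∀ (i : ℕ) (x : C i), ℓ • x = 0) :
    KP Γ Φ C ((singleFunctor A (q : ℤ)).obj S) := by
  intro m
  have hne : ∀ n : ℕ, n ≠ q → Subsingleton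
      (Γ.obj ((homologyFunctor A (n : ℤ)).obj ((singleFunctor A (q : ℤ)).obj S))) := by
    intro n hn
    apply subsingleton_of_isZero
    apply Γ.map_isZero
    rcases lt_or_gt_of_ne hn with h | h
    · exact DerivedCategory.isZero_of_isGE _ (q : ℤ) n (by exact_mod_cast h)
    · exact DerivedCategory.isZero_of_isLE _ (q : ℤ) n (by exact_mod_cast h)
  rcases lt_or_ge m q with hm | hm
  · have h5 := subsingleton_of_isZero (h2 m hm)
    have h6 : ∀ i : Fin (m + 1), Subsingleton (C i ⊗[ℤ]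
        Γ.obj ((homologyFunctor A ((m - i : ℕ) : ℤ)).obj ((singleFunctor A (q : ℤ)).obj S))) := by
      intro i
      have := hne (m - i) (by lia)
      exact subsingleton_tensor _ _
    have h7 : Subsingleton (Rhs Γ C ((singleFunctor A (q : ℤ)).obj S) m) := inferInstance
    exact ⟨addEquivOfSubsingleton _ _⟩
  · obtain ⟨n, rfl⟩ := Nat.exists_eq_add_of_le hm
    obtain ⟨f⟩ := h1 n (q + n) rfl
    obtain ⟨γ⟩ := h3
    let i₀ : Fin (q + n + 1) := ⟨n, by lia⟩
    have hi₀ : q + n - (i₀ : ℕ) = q := by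
      change q + n - n = q
      lia
    have e1 := piEvalEquiv (fun i : Fin (q + n + 1) => C i ⊗[ℤ]
        Γ.obj ((homologyFunctor A ((q + n - i : ℕ) : ℤ)).obj ((singleFunctor A (q : ℤ)).obj S))) i₀ (by
      intro i hi
      have hi' : (i : ℕ) ≠ n := fun h => hi (Fin.ext h)
      have := hne (q + n - i) (by lia)
      exact subsingleton_tensor _ _)
    have e2 : (homologyFunctor A ((q + n - i₀ : ℕ) : ℤ)).obj ((singleFunctor A (q : ℤ)).obj S) ≅ S := by
      rw [hi₀]
      exact (singleFunctorCompHomologyFunctorIso A (q : ℤ)).app S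
    obtain ⟨e3⟩ := nonempty_tensor_zmod (C n) ℓ (h4 n)
    exact ⟨f.trans (e3.symm.trans ((TensorProduct.congr (LinearEquiv.refl ℤ (C n))
      (((Γ.mapIso e2).addCommGroupIsoToAddEquiv.trans γ).symm).toIntLinearEquiv).toAddEquiv.trans
        e1.symm))⟩

/-- The Künneth property for bounded objects of `D^{≥ 0}` with cohomology objects of the form `F(V)`, `V` finite
and killed by `ℓ`. -/
theorem kp_of_bounded (F : AddCommGrpCat.{w} ⥤ A) [F.Additive] (ℓ : ℕ) [Fact ℓ.Prime]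
    (hpd : HasProjectiveDimensionLT (F.obj (AddCommGrpCat.of (ULift.{w} (ZMod ℓ)))) 2)
    (hS : ∀ q : ℕ, KP Γ Φ C ((singleFunctor A (q : ℤ)).obj (F.obj (AddCommGrpCat.of (ULift.{w} (ZMod ℓ))))))
    (L : DerivedCategory A) (b : ℤ) [L.IsGE 0] [L.IsLE b]
    (hL : ∀ q : ℕ, ∃ V : AddCommGrpCat.{w}, Finite V ∧ (∀ x : V, ℓ • x = 0) ∧
      Nonempty (F.obj V ≅ (homologyFunctor A (q : ℤ)).obj L)) : KP Γ Φ C L := by
  let Q : ObjectProperty AddCommGrpCat.{w} := fun V =>
    HasProjectiveDimensionLT (F.obj V) 2 ∧ ∀ q : ℕ, KP Γ Φ C ((singleFunctor A (q : ℤ)).obj (F.obj V))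
  have hQ : Q.IsClosedUnderIsomorphisms := ⟨fun {V W} e h => by
    have := h.1
    exact ⟨hasProjectiveDimensionLT_of_iso (F.mapIso e) 2, fun q =>
      (KP Γ Φ C).prop_of_iso ((singleFunctor A (q : ℤ)).mapIso (F.mapIso e)) (h.2 q)⟩⟩
  have hQV : ∀ (V : AddCommGrpCat.{w}), Finite V → (∀ x : V, ℓ • x = 0) → Q V := by
    intro V hfin hV
    refine fin_induction ℓ Q ?_ ⟨hpd, hS⟩ ?_ V hV
    · intro V hV
      have h := F.map_isZero hV
      have := h.hasProjectiveDimensionLT_zero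
      exact ⟨hasProjectiveDimensionLT_of_ge _ 0 2 (by lia), fun q =>
        kp_of_isZero Γ Φ C _ ((singleFunctor A (q : ℤ)).map_isZero h)⟩
    · intro V W hV hW
      have : PreservesBinaryBiproducts F := preservesBinaryBiproducts_of_preservesBiproducts F
      have h1 := hV.1
      have h2 := hW.1
      refine ⟨hasProjectiveDimensionLT_of_iso (F.mapBiprod V W).symm 2, fun q => ?_⟩
      have : PreservesBinaryBiproducts (singleFunctor A (q : ℤ)) :=
        preservesBinaryBiproducts_of_preservesBiproducts _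
      exact (KP Γ Φ C).prop_of_iso ((singleFunctor A (q : ℤ)).mapIso (F.mapBiprod V W) ≪≫
        (singleFunctor A (q : ℤ)).mapBiprod _ _).symm (kp_biprod Γ Φ C _ _ (hV.2 q) (hW.2 q))
  refine Groth.Agent.Etdl.H439.Hered.devissage_split (KP Γ Φ C) (kp_of_isZero Γ Φ C)
    (fun X Y => kp_biprod Γ Φ C X Y) L 0 b ?_ ?_
  · intro i
    rcases lt_or_ge i 0 with hi | hi
    · have := (L.isZero_of_isGE 0 i hi).hasProjectiveDimensionLT_zero
      exact hasProjectiveDimensionLT_of_ge _ 0 2 (by lia)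
    · lift i to ℕ using hi
      obtain ⟨V, hV, hV', ⟨e⟩⟩ := hL i
      have := (hQV V hV hV').1
      exact hasProjectiveDimensionLT_of_iso e 2
  · intro i
    rcases lt_or_ge i 0 with hi | hi
    · exact kp_of_isZero Γ Φ C _ ((singleFunctor A i).map_isZero (L.isZero_of_isGE 0 i hi))
    · lift i to ℕ using hi
      obtain ⟨V, hV, hV', ⟨e⟩⟩ := hL i
      exact (KP Γ Φ C).prop_of_iso ((singleFunctor A (i : ℤ)).mapIso e) ((hQV V hV hV').2 i)

end Groth.Agent.Etdl.H439.KProp
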