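import Groth.Agent.EtpbcA.ArtinP1

/-!
# Vanishing for the relative affine line at a closed point of the base

`not_mem_supp_Rpush_A1'`: a variant of `EtpbcA.Artin.not_mem_supp_Rpush_A1_of` over an arbitrary affine base
`Spec B`, with the vanishing at infinity as a hypothesis.
-/

set_option autoImplicit false
universe u
open CategoryTheory CategoryTheory.Limits AlgebraicGeometry Opposite

namespace Groth.Agent.Etdl.H439.LineP1

open Groth.Agent.EtpbcA Groth.Agent.EtpbcA.Artin Groth.Agent.EtpbcA.P1Charts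

theorem not_mem_supp_Rpush_A1' (B : CommRingCat.{u}) (N : ℕ) (hN : 2 ≤ N)
    (hZ : ∀ {U : Scheme.{u}} (j : U ⟶ AA B) [IsOpenImmersion j]
      (_ : ∀ v : AA B, v ∈ Set.range j ↔ (Polynomial.X : Polynomial B) ∉ v.asIdeal)
      (w : AA B) (_ : IsClosed ({w} : Set (AA B))) (_ : (Polynomial.X : Polynomial B) ∈ w.asIdeal)
      (G : EtCoh.Ab U) (_ : EtCoh.IsTorsion G) (q : ℕ) (_ : N < q),
      w ∉ EtPBC.supp ((EtCoh.Rpush j q).obj G))
    (y : Spec B) (hy : IsClosed ({y} : Set (Spec B)))
    (F : EtCoh.Ab (AA B)) (hF : EtCoh.IsTorsion F) (q : ℕ) (hq : N < q) :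
    y ∉ EtPBC.supp ((EtCoh.Rpush (pr B) q).obj F) := by
  have hprop : IsProper (toB B) := Groth.Agent.Dix.ProjProper.isProper_toBase 1 (Spec B)
  have hqc : QuasiCompact (chart 0 B) := quasiCompact_chart 0 B
  obtain ⟨Ω, _, _, ξ, hξ⟩ := exists_point y
  have hfib : EtCoh.CohDimLE (pullback (toB B) ξ) 2 :=
    Groth.Agent.S0203.result Ω _ (pullback.snd (toB B) ξ) (dim_fiber_le ξ)
  have h0 : y ∉ EtPBC.supp ((EtCoh.Rpush (toB B) q).obj ((EtCoh.push (chart 0 B)).obj F)) := by
    refine not_mem_supp_of_fiber (toB B) ξ y hξ _ (RpushTors.isTorsion_push (chart 0 B) F hF) q ?_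
    exact hfib _ (Etcore.Torsion.isTorsion_pull _ _ (RpushTors.isTorsion_push (chart 0 B) F hF)) q
      (by omega)
  have h1 : ∀ p q', p + (q' + 1) = q →
      y ∉ EtPBC.supp ((EtCoh.Rpush (toB B) p).obj ((EtCoh.Rpush (chart 0 B) (q' + 1)).obj F)) := by
    intro p q' hpq
    have hG : EtCoh.IsTorsion ((EtCoh.Rpush (chart 0 B) (q' + 1)).obj F) :=
      Groth.Agent.S0125.result (chart 0 B) F hF (q' + 1)
    refine not_mem_supp_of_fiber (toB B) ξ y hξ _ hG p ?_
    have hsupp : ∀ x ∈ EtPBC.supp ((EtCoh.pull (pullback.fst (toB B) ξ)).obj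
        ((EtCoh.Rpush (chart 0 B) (q' + 1)).obj F)),
        pullback.fst (toB B) ξ x ∉ Set.range (chart 0 B) := by
      intro x hx hx'
      rw [supp_pull] at hx
      exact not_mem_supp_Rpush_of_open (chart 0 B) F q' _ hx' hx
    rcases Nat.eq_zero_or_pos p with rfl | hp
    · -- `p = 0`
      apply CdEtLeray.H_subsingleton_of_isZero
      apply isZero_of_forall
      intro x hx
      have h2 := hsupp x hx
      rw [supp_pull] at hx
      obtain ⟨w, hw, hwX⟩ := mem_range_other 0 B _ h2
      rw [Set.mem_preimage, ← hw] at hx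
      have hy' : toB B (chart (0 + 1) B w) = y := by
        rw [hw, ← Scheme.Hom.comp_apply, pullback.condition, Scheme.Hom.comp_apply]
        have h3 : ξ (pullback.snd (toB B) ξ x) ∈ Set.range ξ := ⟨_, rfl⟩
        rw [hξ] at h3
        exact h3
      have hz : IsClosed ({chart (0 + 1) B w} : Set (PP B)) :=
        isClosed_of_notMem_range 0 B _ (hw ▸ h2) (hy'.symm ▸ hy)
      have hwc : IsClosed ({w} : Set (AA B)) := by
        have h3 := hz.preimage (chart (0 + 1) B).continuous
        have h4 : (chart (0 + 1) B) ⁻¹' {chart (0 + 1) B w} = {w} := by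
          ext v
          constructor
          · intro hv
            exact (chart (0 + 1) B).isOpenEmbedding.injective hv
          · rintro rfl
            rfl
        rwa [h4] at h3
      rw [mem_supp_Rpush_iff_of_isPullback (chart (0 + 1) B) (chart 0 B)
        (pullback.fst (chart 0 B) (chart (0 + 1) B)) (pullback.snd (chart 0 B) (chart (0 + 1) B))
        (IsPullback.of_hasPullback _ _) F (q' + 1) w] at hx
      refine hZ (pullback.snd (chart 0 B) (chart (0 + 1) B)) ?_ w hwc hwX
        _ (Etcore.Torsion.isTorsion_pull _ F hF) (q' + 1) (by omega) hx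
      intro v
      rw [Scheme.Pullback.range_snd, Set.mem_preimage, chart_mem_range_iff]
    · exact Groth.Agent.S0171.result _ (pullback.snd (toB B) ξ) _
        (fun x hx => isClosed_fiber ξ 0 x (hsupp x hx)) p hp
  have h2 := CdDiesEt.not_mem_supp_Rpush_comp (chart 0 B) (toB B) F q y h0 h1
  simp only [chart_toB] at h2
  exact h2

end Groth.Agent.Etdl.H439.LineP1
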