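import Groth.Agent.Etdl.H439.Hered
import Groth.Agent.Etdl.H439.ConstSES
import Groth.Agent.EtpbcB.GammaRpush
import Groth.Agent.Sga4B.PointConst

/-!
# Abelian étale sheaves on the spectrum of a separably closed field: projective dimension

* `projective_ZX`: the constant sheaf `ℤ` is projective on `Spec k`, `k` separably closed.
* `pd_constZMod`: the constant sheaf `ℤ/n` has projective dimension at most `1`.
-/

set_option autoImplicit false
universe u

open CategoryTheory CategoryTheory.Limits AlgebraicGeometry Opposite

namespace Groth.Agent.Etdl.H439.PointPD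

open Groth.Agent.EtpbcB.SepClosedPoint Groth.Agent.EtpbcB.GammaRpush

variable (k : Type u) [Field k] [IsSepClosed k]

theorem projective_ZX : Projective (ZX (Spec (CommRingCat.of k))) where
  factors {E X} g f _ := by
    have h1 : PreservesFiniteColimits (Γtop (Spec (CommRingCat.of k))) :=
      preservesFiniteColimits_of_natIso (gammaIsoStalk k).symm
    have h2 : Epi ((Γtop (Spec (CommRingCat.of k))).map f) := inferInstance
    obtain ⟨y, hy⟩ := (AddCommGrpCat.epi_iff_surjective _).1 h2
      ((gammaAddEquiv (Spec (CommRingCat.of k)) X).symm g)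
    refine ⟨gammaAddEquiv (Spec (CommRingCat.of k)) E y, ?_⟩
    rw [← gammaAddEquiv_naturality, hy, AddEquiv.apply_symm_apply]

theorem pd_constZMod (n : ℕ) (hn : 0 < n) :
    HasProjectiveDimensionLT (EtCoh.const (Spec (CommRingCat.of k)) (ZMod n)) 2 := by
  obtain ⟨w, h⟩ := Groth.Agent.Etdl.H439.ConstSES.const_shortExact (Spec (CommRingCat.of k)) n hn
  have hp : Projective (EtCoh.const (Spec (CommRingCat.of k)) ℤ) := projective_ZX k
  exact h.hasProjectiveDimensionLT_X₃ 1
    (inferInstanceAs (HasProjectiveDimensionLT (EtCoh.const (Spec (CommRingCat.of k)) ℤ) 1))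
    (inferInstanceAs (HasProjectiveDimensionLT (EtCoh.const (Spec (CommRingCat.of k)) ℤ) (1 + 1)))

end Groth.Agent.Etdl.H439.PointPD
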