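import Groth.Agent.Etdl.H439.KProp
import Groth.Agent.Etdl.H439.PointPD
import Groth.Agent.Etcore.IntLam
import Groth.Agent.Etbase.OverStalk
import Groth.Agent.Sga4B.ShriekTools
import Groth.Agent.Etrest.RAmp
import Groth.Agent.Etrest.DEtPush
import Groth.Agent.Dcoh.MapDer
import Groth.Agent.S0648
import Groth.Prelude.Def_DEt2

/-!
# The Künneth property over a point

`k` separably closed, `a : Xbar ⟶ Spec k`, `j : X ⟶ Xbar` an open immersion. `GX` is the functor
`L ↦ R a_* j_! (j ≫ a)^* L` on `D((Spec k)_et)`, `Phi m = Γ ∘ H^m ∘ GX` and `Cc i = H^i(Xbar, j_! ℤ/ℓ)`.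
`kp_const`: the Künneth property holds for `(ℤ/ℓ)[-q]`.
-/

set_option autoImplicit false
universe u

open CategoryTheory CategoryTheory.Limits AlgebraicGeometry Opposite DerivedCategory

attribute [local instance] HasDerivedCategory.standard

namespace Groth.Agent.Etdl.H439.PointK

open Groth.Agent.EtpbcB.SepClosedPoint Groth.Agent.EtpbcB.GammaRpush Groth.Agent.Etdl.H439.KProp
  Groth.Agent.Etrest.DEtPush Groth.Agent.Etrest.RDer3

section functors

variable {S X Xbar : Scheme.{u}} (a : Xbar ⟶ S) (j : X ⟶ Xbar) [IsOpenImmersion j]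

/-- `j_!` is exact. -/
theorem exact_extZero : PreservesFiniteLimits (EtShriek.extZero j) := Groth.Agent.S0648.result j

attribute [local instance] exact_extZero

/-- `L ↦ R a_* j_! (j ≫ a)^* L`. -/
noncomputable def GX : DCoh.DEt S ⥤ DCoh.DEt S :=
  (EtCoh.pull (j ≫ a)).mapDerivedCategory ⋙ (EtShriek.extZero j).mapDerivedCategory ⋙
    TR (EtCoh.push a)

instance : (GX a j).Additive := by
  unfold GX
  infer_instance

/-- the value of `GX` on a single complex -/
theorem nonempty_GX_single (q : ℤ) (F : EtCoh.Ab S) :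
    Nonempty ((GX a j).obj ((singleFunctor (EtCoh.Ab S) q).obj F) ≅
      (TR (EtCoh.push a)).obj ((singleFunctor (EtCoh.Ab Xbar) q).obj
        ((EtShriek.extZero j).obj ((EtCoh.pull (j ≫ a)).obj F)))) :=
  ⟨(TR (EtCoh.push a)).mapIso
    ((EtShriek.extZero j).mapDerivedCategory.mapIso
      (((EtCoh.pull (j ≫ a)).mapDerivedCategorySingleFunctor q).app F) ≪≫
      ((EtShriek.extZero j).mapDerivedCategorySingleFunctor q).app _)⟩

end functors

variable {k : Type u} [Field k] [IsSepClosed k] {X Xbar : Scheme.{u}} (a : Xbar ⟶ Spec (CommRingCat.of k))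
  (j : X ⟶ Xbar) [IsOpenImmersion j]

/-- `Γ(H^m(GX -))`. -/
noncomputable def Phi (m : ℕ) : DCoh.DEt (Spec (CommRingCat.of k)) ⥤ AddCommGrpCat.{u + 1} :=
  GX a j ⋙ homologyFunctor _ (m : ℤ) ⋙ Γtop (Spec (CommRingCat.of k))

instance (m : ℕ) : (Phi a j m).Additive := by
  unfold Phi
  infer_instance

/-- `H^i(Xbar, j_! ℤ/ℓ)`. -/
abbrev Cc (ℓ : ℕ) (i : ℕ) : Type (u + 1) :=
  EtCoh.H Xbar ((EtShriek.extZero j).obj (EtCoh.const X (ZMod ℓ))) i

theorem nsmul_Cc (ℓ : ℕ) (i : ℕ) (x : Cc j ℓ i) : ℓ • x = 0 :=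
  Groth.Agent.Etcore.IntLam.nsmul_H_eq_zero
    (Groth.Agent.Sga4B.ShriekTools.killedBy_extZero j ℓ _
      (Groth.Agent.Etrest.ConstBasic.killedBy_const X (ZMod ℓ) ℓ (by simp))) i x

/-- global sections of a constant sheaf over a separably closed field -/
theorem nonempty_gamma_const (M : Type) [AddCommGroup M] :
    Nonempty ((Γtop (Spec (CommRingCat.of k))).obj (EtCoh.const (Spec (CommRingCat.of k)) M) ≃+ M) :=
  ⟨((gammaIsoStalk k).app _).addCommGroupIsoToAddEquiv.trans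
    ((Groth.Agent.Etbase.OverStalk.sheafFiberConstantSheafIso
      (Scheme.pointSmallEtale (pt k)) (AddCommGrpCat.of (ULift.{u + 1} M))).addCommGroupIsoToAddEquiv.trans
      AddEquiv.ulift)⟩

/-- the inverse image of a constant sheaf -/
theorem nonempty_pull_const {Y Z : Scheme.{u}} (f : Y ⟶ Z) (M : Type) [AddCommGroup M] :
    Nonempty ((EtCoh.pull f).obj (EtCoh.const Z M) ≅ EtCoh.const Y M) :=
  ⟨(Groth.Agent.Etrest.ConstBasic.constPull f).app _⟩

theorem kp_const (ℓ : ℕ) (q : ℕ) :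
    KP (Γtop (Spec (CommRingCat.of k))) (Phi a j) (Cc j ℓ)
      ((singleFunctor (EtCoh.Ab (Spec (CommRingCat.of k))) (q : ℤ)).obj
        (EtCoh.const (Spec (CommRingCat.of k)) (ZMod ℓ))) := by
  obtain ⟨e⟩ := nonempty_GX_single a j (q : ℤ) (EtCoh.const (Spec (CommRingCat.of k)) (ZMod ℓ))
  obtain ⟨e'⟩ := nonempty_pull_const (j ≫ a) (ZMod ℓ)
  refine kp_single _ _ _ _ ℓ q ?_ ?_ (nonempty_gamma_const (ZMod ℓ)) (nsmul_Cc j ℓ)
  · intro n m hnm
    obtain ⟨e2⟩ := Groth.Agent.Etrest.RAmp.nonempty_HTR_single (EtCoh.push a)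
      ((EtShriek.extZero j).obj ((EtCoh.pull (j ≫ a)).obj
        (EtCoh.const (Spec (CommRingCat.of k)) (ZMod ℓ)))) (q : ℤ) n (m : ℤ) (by exact_mod_cast hnm)
    obtain ⟨e3⟩ := gamma_Rpush a ((EtShriek.extZero j).obj (EtCoh.const X (ZMod ℓ))) n
    exact ⟨((Γtop (Spec (CommRingCat.of k))).mapIso ((homologyFunctor _ (m : ℤ)).mapIso e ≪≫ e2 ≪≫
      (EtCoh.Rpush a n).mapIso ((EtShriek.extZero j).mapIso e'))).addCommGroupIsoToAddEquiv.trans e3⟩
  · intro m hm
    refine (Γtop (Spec (CommRingCat.of k))).map_isZero ?_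
    exact (Groth.Agent.Etrest.RAmp.isZero_HTR_single (EtCoh.push a) _ (q : ℤ) (m : ℤ)
      (by exact_mod_cast hm)).of_iso ((homologyFunctor _ (m : ℤ)).mapIso e)

end Groth.Agent.Etdl.H439.PointK
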